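import Groth.Agent.Lib.Ver28.Induced

/-!
Coherent modules on the Proj of a noetherian graded ring come from finite graded modules.
-/

set_option autoImplicit false
set_option linter.unusedSectionVars false
set_option linter.style.haveILetI false
set_option backward.isDefEq.respectTransparency false
set_option backward.isDefEq.respectTransparency.types false
set_option maxSynthPendingDepth 5
set_option maxHeartbeats 1000000

open CategoryTheory CategoryTheory.Limits AlgebraicGeometry TopologicalSpace Opposite TensorProduct DirectSum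

universe u

namespace Groth.Agent.Ver28

theorem exists_finite_tilde_noetherian {R A : Type u} [CommRing R] [CommRing A] [Algebra R A]
    (𝒜 : ℕ → Submodule R A) [GradedAlgebra 𝒜] [IsNoetherianRing A] (F : (Proj 𝒜).Modules) (hF : Coh.IsCoh F) :
    ∃ (M : Type u) (_ : AddCommGroup M) (_ : Module R M) (_ : Module A M) (_ : IsScalarTower R A M)
      (ℳ : ℕ → Submodule R M) (_ : DirectSum.Decomposition ℳ) (_ : SetLike.GradedSMul 𝒜 ℳ),
      Module.Finite A M ∧ Nonempty (_root_.GrMod.tilde 𝒜 ℳ 0 ≅ F) := by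
  classical
  haveI : Algebra.FiniteType (𝒜 0) A := (EGA2.irrelevant_fg_iff 𝒜).1 (IsNoetherian.noetherian _)
  obtain ⟨s, hs, -, hirr⟩ := EGA2.exists_homogeneous_gens 𝒜
  choose deg hpos hmem using fun x : {a // a ∈ s} => hs x.1 x.2
  let d := ∏ x, deg x
  have hd : 0 < d := Finset.prod_pos fun x _ => hpos x
  haveI : Fact (0 < d) := ⟨hd⟩
  let B := verSub 𝒜 d
  let ℬ := verGr 𝒜 d
  let φ : B →ₐ[R] A := B.val
  have hφ : Function.Injective φ := Subtype.val_injective
  have hdeg : ∀ n : ℕ, Submodule.map φ.toLinearMap (ℬ n) = 𝒜 (n * d) := map_verGr 𝒜 d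
  haveI : IsNoetherianRing B := Groth.Agent.S4412.result 𝒜 ℬ d hd φ hφ hdeg
  obtain ⟨e, -, he⟩ := Groth.Agent.S3580.result 𝒜 ℬ d hd φ hφ hdeg
  have H : Ctx d φ e := Ctx.mk hd hφ hdeg he
  have hdvd : ∀ x, deg x ∣ d := fun x => Finset.dvd_prod_of_mem _ (Finset.mem_univ x)
  have hpre : ∀ x : {a // a ∈ s}, ∃ g ∈ ℬ 1, φ g = x.1 ^ (d / deg x) := fun x => by
    have h1 : x.1 ^ (d / deg x) ∈ 𝒜 (1 * d) := by
      have h2 := GrTw11.pow_mem_smul 𝒜 (hmem x) (d / deg x)
      rw [Nat.div_mul_cancel (hdvd x)] at h2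
      rw [one_mul]; exact h2
    rw [← hdeg] at h1
    exact h1
  choose g hg hgx using hpre
  have hcov : ∀ y : Proj ℬ, ∃ x, y ∈ Proj.basicOpen ℬ (g x) := fun y => by
    obtain ⟨p, rfl⟩ := e.hom.homeomorph.surjective y
    obtain ⟨x, hx⟩ := TopologicalSpace.Opens.mem_iSup.1
      ((Proj.iSup_basicOpen_eq_top 𝒜 (fun x : {a // a ∈ s} => x.1)
        (by rw [hirr, Subtype.range_coe_subtype]; simp)).ge (trivial : p ∈ ⊤))
    refine ⟨x, (H.preimage (g x)).ge ?_⟩
    rw [hgx, Proj.basicOpen_pow 𝒜 _ _ (Nat.div_pos (Nat.le_of_dvd hd (hdvd x)) (hpos x))]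
    exact hx
  let F' := (Scheme.Modules.pullback e.inv).obj F
  have hF' : Coh.IsCoh F' := M1.isCoh_pullback e.inv hF
  haveI : Fact (Coh.IsQCoh F') := ⟨hF'.1⟩
  obtain ⟨N, _, _, _, _, 𝒩, _, _, hfin, ⟨α⟩⟩ :=
    GrMod11.exists_finite_tilde (𝒜 := ℬ) (F := F') (f := g) (hf := hg) hcov hF'.2
  letI : Algebra B A := φ.toRingHom.toAlgebra
  haveI : IsScalarTower R B A := IsScalarTower.of_algebraMap_eq fun r => (φ.commutes r).symm
  have hdeg' : ∀ (n : ℕ) (b : B), b ∈ ℬ n → algebraMap B A b ∈ 𝒜 (n * d) := fun n b hb => hb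
  let M := A ⊗[B] N
  let ℳ := indGr 𝒜 (B := B) d 𝒩
  letI : DirectSum.Decomposition ℳ := (isInternal_indGr 𝒜 ℬ d hdeg' 𝒩).chooseDecomposition
  haveI : Module.Finite B N := hfin
  let v : N →ₛₗ[φ.toRingHom] M :=
    { toFun := fun n => 1 ⊗ₜ[B] n
      map_add' := fun x y => TensorProduct.tmul_add _ _ _
      map_smul' := fun b n => by
        show (1 : A) ⊗ₜ[B] (b • n) = φ b • ((1 : A) ⊗ₜ[B] n)
        rw [TensorProduct.smul_tmul', smul_eq_mul, mul_one, ← TensorProduct.smul_tmul]
        congr 1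
        rw [Algebra.smul_def, mul_one]; rfl }
  obtain ⟨π, hπ, hlin⟩ := EGA2.exists_veronese_retraction hφ hdeg
  let ρ : A ⊗[B] N →+ N := TensorProduct.liftAddHom
    (AddMonoidHom.mk' (fun a => AddMonoidHom.mk' (fun n => π a • n) fun x y => smul_add _ _ _)
      fun a a' => AddMonoidHom.ext fun n => by simp [add_smul])
    fun b a n => by
      show π (b • a) • n = π a • (b • n)
      rw [Algebra.smul_def, show algebraMap B A b = φ b from rfl, hlin, smul_smul, mul_comm]
  have hv : Function.Injective v := Function.LeftInverse.injective (g := ρ) fun n => by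
    show π 1 • n = n
    rw [← map_one φ, hπ, one_smul]
  have hvdeg : ∀ k : ℕ, (𝒩 k : Set N).image v = (ℳ (k * d) : Set M) := fun k => by
    refine Set.Subset.antisymm ?_ fun x hx => ?_
    · rintro _ ⟨n, hn, rfl⟩
      have := tmul_mem_indGr 𝒜 (B := B) d 𝒩 (SetLike.one_mem_graded 𝒜) hn
      rwa [zero_add] at this
    · change x ∈ AddSubgroup.closure _ at hx
      induction hx using AddSubgroup.closure_induction with
      | mem x hx =>
        obtain ⟨i, j, a, n, ha, hn, hij, rfl⟩ := hx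
        have hi : i = (k - j) * d := by rw [Nat.sub_mul]; omega
        rw [hi, ← hdeg] at ha
        obtain ⟨b, hb, rfl⟩ := ha
        have hjk : j ≤ k := Nat.le_of_mul_le_mul_right (by omega : j * d ≤ k * d) hd
        refine ⟨b • n, ?_, ?_⟩
        · have h := SetLike.GradedSMul.smul_mem (A := ℬ) (B := 𝒩) hb hn
          rwa [vadd_eq_add, Nat.sub_add_cancel hjk] at h
        · show (1 : A) ⊗ₜ[B] (b • n) = _
          rw [← TensorProduct.smul_tmul, Algebra.smul_def, mul_one]; rfl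
      | zero => exact ⟨0, zero_mem _, map_zero v⟩
      | add x y _ _ hx hy =>
        obtain ⟨m, hm, rfl⟩ := hx
        obtain ⟨m', hm', rfl⟩ := hy
        exact ⟨m + m', add_mem hm hm', map_add v _ _⟩
      | neg x _ hx =>
        obtain ⟨m, hm, rfl⟩ := hx
        exact ⟨-m, neg_mem hm, map_neg v _⟩
  obtain ⟨β⟩ := H.nonempty_iso (ℳ := ℳ) v hvdeg 0 hv
  refine ⟨M, inferInstance, inferInstance, inferInstance, inferInstance, ℳ, inferInstance, inferInstance,
    inferInstance, ⟨?_⟩⟩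
  refine (eqToIso (by rw [zero_mul])) ≪≫ β ≪≫ (Scheme.Modules.pullback e.hom).mapIso α ≪≫
    (Scheme.Modules.pullbackComp e.hom e.inv).app F ≪≫
    (Scheme.Modules.pullbackCongr e.hom_inv_id).app F ≪≫ (Scheme.Modules.pullbackId _).app F

end Groth.Agent.Ver28
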