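import Groth.Agent.Lib.Ver28.Main
import Groth.Agent.Lib.GrMod11.GammaGraded
import Groth.Agent.Lib.ModM1.Pull
import Groth.Agent.S4412
import Mathlib.RingTheory.TensorProduct.Finite

/-!
The Veronese subalgebra and induced graded modules.
-/

set_option autoImplicit false
set_option linter.unusedSectionVars false
set_option backward.isDefEq.respectTransparency false
set_option backward.isDefEq.respectTransparency.types false
set_option maxSynthPendingDepth 5

open CategoryTheory CategoryTheory.Limits AlgebraicGeometry TopologicalSpace Opposite TensorProduct DirectSum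

universe u

namespace Groth.Agent.Ver28

variable {R A : Type u} [CommRing R] [CommRing A] [Algebra R A] (𝒜 : ℕ → Submodule R A) [GradedAlgebra 𝒜]

section Sub

variable (d : ℕ)

/-- The submodule underlying the `d`-th Veronese subalgebra. -/
def verMod : Submodule R A := ⨆ n : ℕ, 𝒜 (n * d)

theorem mul_mem_verMod {x y : A} (hx : x ∈ verMod 𝒜 d) (hy : y ∈ verMod 𝒜 d) : x * y ∈ verMod 𝒜 d := by
  induction hx using Submodule.iSup_induction' with
  | zero => simp
  | add a b _ _ ha hb => rw [add_mul]; exact add_mem ha hb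
  | mem i a ha =>
    induction hy using Submodule.iSup_induction' with
    | zero => simp
    | add a' b' _ _ ha' hb' => rw [mul_add]; exact add_mem ha' hb'
    | mem j b hb =>
      exact Submodule.mem_iSup_of_mem (i + j) (by rw [add_mul]; exact SetLike.mul_mem_graded ha hb)

/-- The `d`-th Veronese subalgebra. -/
def verSub : Subalgebra R A :=
  (verMod 𝒜 d).toSubalgebra (Submodule.mem_iSup_of_mem 0 (by rw [zero_mul]; exact SetLike.one_mem_graded 𝒜))
    fun _ _ hx hy => mul_mem_verMod 𝒜 d hx hy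

/-- Its grading. -/
def verGr (n : ℕ) : Submodule R (verSub 𝒜 d) := (𝒜 (n * d)).comap (verSub 𝒜 d).val.toLinearMap

theorem map_verGr (n : ℕ) : (verGr 𝒜 d n).map (verSub 𝒜 d).val.toLinearMap = 𝒜 (n * d) := by
  refine le_antisymm (Submodule.map_comap_le _ _) fun x hx => ?_
  exact ⟨⟨x, show x ∈ verMod 𝒜 d from Submodule.mem_iSup_of_mem n hx⟩, hx, rfl⟩

instance : SetLike.GradedMonoid (verGr 𝒜 d) where
  one_mem := by
    show (1 : A) ∈ 𝒜 (0 * d)
    rw [zero_mul]; exact SetLike.one_mem_graded 𝒜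
  mul_mem i j a b ha hb := by
    show (a : A) * b ∈ 𝒜 ((i + j) * d)
    rw [add_mul]; exact SetLike.mul_mem_graded ha hb

variable [hd : Fact (0 < d)]

theorem isInternal_verGr : DirectSum.IsInternal (verGr 𝒜 d) := by
  classical
  have hinj : Function.Injective (verSub 𝒜 d).val.toLinearMap := Subtype.val_injective
  refine (DirectSum.isInternal_submodule_iff_iSupIndep_and_iSup_eq_top _).2 ⟨?_, ?_⟩
  · have h : iSupIndep fun n : ℕ => 𝒜 (n * d) :=
      (DirectSum.Decomposition.isInternal 𝒜).submodule_iSupIndep.comp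
        fun a b hab => Nat.eq_of_mul_eq_mul_right hd.out hab
    intro n
    have h1 := h n
    rw [disjoint_iff] at h1 ⊢
    refine eq_bot_iff.2 fun x hx => ?_
    have h2 : (x : A) ∈ 𝒜 (n * d) ⊓ ⨆ (j) (_ : j ≠ n), 𝒜 (j * d) := by
      refine ⟨hx.1, ?_⟩
      have h3 : (verSub 𝒜 d).val.toLinearMap x ∈
          (⨆ (j) (_ : j ≠ n), verGr 𝒜 d j).map (verSub 𝒜 d).val.toLinearMap := ⟨x, hx.2, rfl⟩
      simp only [Submodule.map_iSup, map_verGr] at h3
      exact h3
    rw [h1] at h2
    exact hinj (by simpa using h2)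
  · refine Submodule.map_injective_of_injective hinj ?_
    rw [Submodule.map_iSup]
    simp only [map_verGr]
    refine le_antisymm ?_ ?_
    · exact iSup_le fun n x hx => ⟨⟨x, Submodule.mem_iSup_of_mem n hx⟩, trivial, rfl⟩
    · rintro _ ⟨x, -, rfl⟩
      exact x.2

noncomputable instance : GradedAlgebra (verGr 𝒜 d) :=
  { (inferInstance : SetLike.GradedMonoid (verGr 𝒜 d)), (isInternal_verGr 𝒜 d).chooseDecomposition with }

end Sub

section Ind

variable {B : Type u} [CommRing B] [Algebra R B] (ℬ : ℕ → Submodule R B) [GradedAlgebra ℬ]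
  [Algebra B A] [IsScalarTower R B A] (d : ℕ)
  (hdeg : ∀ (n : ℕ) (b : B), b ∈ ℬ n → algebraMap B A b ∈ 𝒜 (n * d))
  {N : Type u} [AddCommGroup N] [Module R N] [Module B N] [IsScalarTower R B N] (𝒩 : ℕ → Submodule R N)
  [DirectSum.Decomposition 𝒩] [SetLike.GradedSMul ℬ 𝒩]

/-- Generators of the degree `i` part of `A ⊗ N`. -/
def indSet (i : ℕ) : Set (A ⊗[B] N) :=
  {x | ∃ (e j : ℕ) (a : A) (n : N), a ∈ 𝒜 e ∧ n ∈ 𝒩 j ∧ e + j * d = i ∧ a ⊗ₜ[B] n = x}

/-- The grading of `A ⊗ N`. -/
def indGr (i : ℕ) : Submodule R (A ⊗[B] N) where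
  toAddSubmonoid := (AddSubgroup.closure (indSet 𝒜 (B := B) d 𝒩 i)).toAddSubmonoid
  smul_mem' r x hx := by
    change x ∈ AddSubgroup.closure _ at hx
    change r • x ∈ AddSubgroup.closure _
    induction hx using AddSubgroup.closure_induction with
    | mem x hx =>
      obtain ⟨e, j, a, n, ha, hn, he, rfl⟩ := hx
      exact AddSubgroup.subset_closure ⟨e, j, r • a, n, Submodule.smul_mem _ r ha, hn, he,
        (TensorProduct.smul_tmul' r a n).symm⟩
    | zero => rw [smul_zero]; exact zero_mem _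
    | add x y _ _ hx hy => rw [smul_add]; exact add_mem hx hy
    | neg x _ hx => rw [smul_neg]; exact neg_mem hx

theorem tmul_mem_indGr {e j : ℕ} {a : A} {n : N} (ha : a ∈ 𝒜 e) (hn : n ∈ 𝒩 j) :
    a ⊗ₜ[B] n ∈ indGr 𝒜 (B := B) d 𝒩 (e + j * d) :=
  AddSubgroup.subset_closure ⟨e, j, a, n, ha, hn, rfl, rfl⟩

instance : SetLike.GradedSMul 𝒜 (indGr 𝒜 (B := B) d 𝒩) where
  smul_mem {k i c x} hc hx := by
    change x ∈ AddSubgroup.closure _ at hx
    induction hx using AddSubgroup.closure_induction with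
    | mem x hx =>
      obtain ⟨e, j, a, n, ha, hn, he, rfl⟩ := hx
      exact AddSubgroup.subset_closure ⟨k + e, j, c * a, n, SetLike.mul_mem_graded hc ha, hn,
        by rw [vadd_eq_add, ← he, add_assoc], (TensorProduct.smul_tmul' c a n).symm⟩
    | zero => rw [smul_zero]; exact zero_mem _
    | add x y _ _ hx hy => rw [smul_add]; exact add_mem hx hy
    | neg x _ hx => rw [smul_neg]; exact neg_mem hx

/-- The degree decomposition as a bi-additive map. -/
noncomputable def indBil : A →+ N →+ ⨁ i, indGr 𝒜 (B := B) d 𝒩 i :=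
  (DirectSum.toAddMonoid fun e => AddMonoidHom.mk' (fun a : 𝒜 e =>
    (DirectSum.toAddMonoid fun j => AddMonoidHom.mk' (fun n : 𝒩 j =>
        DirectSum.of (fun i => indGr 𝒜 (B := B) d 𝒩 i) (e + j * d)
          ⟨(a : A) ⊗ₜ[B] (n : N), tmul_mem_indGr 𝒜 d 𝒩 a.2 n.2⟩)
      fun n n' => by
        rw [← map_add]; congr 1; exact Subtype.ext (TensorProduct.tmul_add _ _ _)).comp
      (DirectSum.decomposeAddEquiv 𝒩).toAddMonoidHom)
    fun a a' => by
      refine AddMonoidHom.ext fun n => ?_
      induction n using DirectSum.Decomposition.inductionOn 𝒩 with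
      | zero => simp
      | @homogeneous j n =>
        simp only [AddMonoidHom.add_apply, AddMonoidHom.comp_apply, AddEquiv.coe_toAddMonoidHom,
          DirectSum.decomposeAddEquiv_apply, DirectSum.decompose_coe, DirectSum.toAddMonoid_of,
          AddMonoidHom.mk'_apply]
        rw [← map_add]; congr 1; exact Subtype.ext (TensorProduct.add_tmul _ _ _)
      | add x y hx hy => simp only [map_add, AddMonoidHom.add_apply] at hx hy ⊢; rw [hx, hy]).comp
    (DirectSum.decomposeAddEquiv 𝒜).toAddMonoidHom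

theorem indBil_of_mem {e j : ℕ} {a : A} {n : N} (ha : a ∈ 𝒜 e) (hn : n ∈ 𝒩 j) :
    indBil 𝒜 (B := B) d 𝒩 a n =
      DirectSum.of (fun i => indGr 𝒜 (B := B) d 𝒩 i) (e + j * d) ⟨a ⊗ₜ[B] n, tmul_mem_indGr 𝒜 d 𝒩 ha hn⟩ := by
  simp only [indBil, AddMonoidHom.comp_apply, AddEquiv.coe_toAddMonoidHom, DirectSum.decomposeAddEquiv_apply,
    DirectSum.decompose_of_mem 𝒜 ha, DirectSum.toAddMonoid_of, AddMonoidHom.mk'_apply,
    DirectSum.decompose_of_mem 𝒩 hn]

theorem of_congr {i i' : ℕ} (h : i = i') {x x' : A ⊗[B] N} (hxx : x = x') (hx : x ∈ indGr 𝒜 (B := B) d 𝒩 i)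
    (hx' : x' ∈ indGr 𝒜 (B := B) d 𝒩 i') :
    DirectSum.of (fun i => indGr 𝒜 (B := B) d 𝒩 i) i ⟨x, hx⟩ =
      DirectSum.of (fun i => indGr 𝒜 (B := B) d 𝒩 i) i' ⟨x', hx'⟩ := by
  subst h hxx; rfl

include hdeg in
theorem indBil_smul (a : A) (b : B) (n : N) :
    indBil 𝒜 (B := B) d 𝒩 (b • a) n = indBil 𝒜 (B := B) d 𝒩 a (b • n) := by
  induction a using DirectSum.Decomposition.inductionOn 𝒜 with
  | zero => simp
  | add x y hx hy => simp only [smul_add, map_add, AddMonoidHom.add_apply, hx, hy]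
  | @homogeneous e a =>
    induction b using DirectSum.Decomposition.inductionOn ℬ with
    | zero => simp
    | add x y hx hy => simp only [add_smul, map_add, AddMonoidHom.add_apply, hx, hy]
    | @homogeneous k b =>
      induction n using DirectSum.Decomposition.inductionOn 𝒩 with
      | zero => simp
      | add x y hx hy => simp only [smul_add, map_add, hx, hy]
      | @homogeneous j n =>
        have hba : (b : B) • (a : A) ∈ 𝒜 (k * d + e) := by
          rw [Algebra.smul_def]; exact SetLike.mul_mem_graded (hdeg k b b.2) a.2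
        have hbn : (b : B) • (n : N) ∈ 𝒩 (k + j) := SetLike.GradedSMul.smul_mem b.2 n.2
        rw [indBil_of_mem 𝒜 d 𝒩 hba n.2, indBil_of_mem 𝒜 d 𝒩 a.2 hbn]
        exact of_congr 𝒜 d 𝒩 (by ring) (smul_tmul _ _ _) _ _

include hdeg in
theorem isInternal_indGr : DirectSum.IsInternal (indGr 𝒜 (B := B) d 𝒩) := by
  classical
  let Φ : A ⊗[B] N →+ ⨁ i, indGr 𝒜 (B := B) d 𝒩 i :=
    TensorProduct.liftAddHom (indBil 𝒜 d 𝒩) fun r m n => indBil_smul 𝒜 ℬ d hdeg 𝒩 m r n
  have hΦ : ∀ i x, (hx : x ∈ indGr 𝒜 (B := B) d 𝒩 i) → Φ x = DirectSum.of _ i ⟨x, hx⟩ := by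
    intro i x hx
    have hx' : x ∈ AddSubgroup.closure (indSet 𝒜 (B := B) d 𝒩 i) := hx
    induction hx' using AddSubgroup.closure_induction with
    | mem x hx' =>
      obtain ⟨e, j, a, n, ha, hn, rfl, rfl⟩ := hx'
      exact indBil_of_mem 𝒜 d 𝒩 ha hn
    | zero =>
      rw [map_zero]
      exact (map_zero (DirectSum.of (fun i => indGr 𝒜 (B := B) d 𝒩 i) i)).symm
    | add x y hx' hy' ihx ihy =>
      rw [map_add, ihx hx', ihy hy', ← map_add]
      rfl
    | neg x hx' ihx =>
      rw [map_neg, ihx hx', ← map_neg]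
      rfl
  constructor
  · refine Function.LeftInverse.injective (g := Φ) fun z => ?_
    induction z using DirectSum.induction_on with
    | zero => simp
    | of i x =>
      rw [DirectSum.coeAddMonoidHom_of]
      exact hΦ i x x.2
    | add x y hx hy => rw [map_add, map_add, hx, hy]
  · refine Function.RightInverse.surjective (g := Φ) fun z => ?_
    induction z using TensorProduct.induction_on with
    | zero => simp
    | add x y hx hy => rw [map_add, map_add, hx, hy]
    | tmul a n =>
      show DirectSum.coeAddMonoidHom _ (indBil 𝒜 d 𝒩 a n) = _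
      induction a using DirectSum.Decomposition.inductionOn 𝒜 with
      | zero => simp
      | add x y hx hy => simp only [map_add, AddMonoidHom.add_apply, TensorProduct.add_tmul, hx, hy]
      | @homogeneous e a =>
        induction n using DirectSum.Decomposition.inductionOn 𝒩 with
        | zero => simp
        | add x y hx hy => simp only [map_add, TensorProduct.tmul_add, hx, hy]
        | @homogeneous j n =>
          rw [indBil_of_mem 𝒜 d 𝒩 a.2 n.2, DirectSum.coeAddMonoidHom_of]

end Ind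

end Groth.Agent.Ver28
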