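import Groth.Agent.Lib.GrMod11.Comap
import Groth.Agent.Lib.EGA2.Veronese
import Groth.Agent.S3580

/-!
Modules on `Proj` and the Veronese isomorphism.
-/

set_option autoImplicit false
set_option linter.unusedSectionVars false

open CategoryTheory CategoryTheory.Limits AlgebraicGeometry TopologicalSpace Opposite HomogeneousLocalization

universe u

namespace Groth.Agent.Ver28

open Groth.Agent.GrTw11 (valO valO_awayToSection pow_notMem pow_mem_smul)

variable {R A : Type u} [CommRing R] [CommRing A] [Algebra R A] {𝒜 : ℕ → Submodule R A} [GradedAlgebra 𝒜]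
  {B : Type u} [CommRing B] [Algebra R B] {ℬ : ℕ → Submodule R B} [GradedAlgebra ℬ]

/-- `e` is the canonical isomorphism of the `d`-th Veronese subring. -/
structure Ctx (d : ℕ) (φ : B →ₐ[R] A) (e : Proj 𝒜 ≅ Proj ℬ) : Prop where
  hd : 0 < d
  inj : Function.Injective φ
  hdeg : ∀ n : ℕ, Submodule.map φ.toLinearMap (ℬ n) = 𝒜 (n * d)
  he : ∀ (n : ℕ) (g : B) (hn : 0 < n) (hg : g ∈ ℬ n)
      (θ : CommRingCat.of (HomogeneousLocalization.Away ℬ g) ⟶ CommRingCat.of (HomogeneousLocalization.Away 𝒜 (φ g))),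
      (algebraMap (HomogeneousLocalization.Away 𝒜 (φ g)) (Localization.Away (φ g))).comp θ.hom =
        (Localization.awayMap φ.toRingHom g).comp
          (algebraMap (HomogeneousLocalization.Away ℬ g) (Localization.Away g)) →
      Proj.awayι 𝒜 (φ g) ((hdeg n).le (Submodule.mem_map_of_mem hg)) (Nat.mul_pos hn hd) ≫ e.hom =
        Spec.map θ ≫ Proj.awayι ℬ g hg hn

variable {d : ℕ} {φ : B →ₐ[R] A} {e : Proj 𝒜 ≅ Proj ℬ} (H : Ctx d φ e)

include H

theorem Ctx.map_mem {n : ℕ} {b : B} (hb : b ∈ ℬ n) : φ b ∈ 𝒜 (n * d) :=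
  (H.hdeg n).le (Submodule.mem_map_of_mem hb)

theorem Ctx.cover (p : Proj 𝒜) : ∃ (n : ℕ) (g : B), 0 < n ∧ g ∈ ℬ n ∧ p ∈ Proj.basicOpen 𝒜 (φ g) := by
  obtain ⟨⟨f, n, hn, hf⟩, hxf⟩ := TopologicalSpace.Opens.mem_iSup.1
    ((Groth.Agent.EGA2.iSup_basicOpen_pos 𝒜).ge (Set.mem_univ p))
  have h2 : f ^ d ∈ 𝒜 (n * d) := by rw [mul_comm]; exact SetLike.pow_mem_graded d hf
  rw [← H.hdeg] at h2
  obtain ⟨g, hg, hgf⟩ := h2
  refine ⟨n, g, hn, hg, ?_⟩
  rw [show φ g = f ^ d from hgf, Proj.basicOpen_pow 𝒜 f d H.hd]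
  exact hxf

theorem Ctx.point (p : Proj 𝒜) :
    (e.hom.base p).asHomogeneousIdeal.toIdeal = Ideal.comap φ p.asHomogeneousIdeal.toIdeal := by
  obtain ⟨e', h1, h2⟩ := Groth.Agent.S3580.result 𝒜 ℬ d H.hd φ H.inj H.hdeg
  suffices e.hom = e'.hom by rw [this]; exact h1 p
  refine Scheme.hom_ext_of_forall _ _ fun x => ?_
  obtain ⟨n, g, hn, hg, hx⟩ := H.cover x
  refine ⟨Proj.basicOpen 𝒜 (φ g), hx, ?_⟩
  have hdeg' : ∀ (n : ℕ) (b : B), b ∈ ℬ n → φ.toRingHom b ∈ 𝒜 (n * d) := fun _ _ h => H.map_mem h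
  have hθ : (algebraMap (Away 𝒜 (φ g)) (Localization.Away (φ g))).comp
      (CommRingCat.ofHom (EGA2.degAwayMap φ.toRingHom hdeg' g)).hom =
        (Localization.awayMap φ.toRingHom g).comp (algebraMap (Away ℬ g) (Localization.Away g)) :=
    RingHom.ext fun z => EGA2.val_degAwayMap φ.toRingHom hdeg' g z
  rw [← (Proj.basicOpenIsoSpec 𝒜 (φ g) (H.map_mem hg) (Nat.mul_pos hn H.hd)).hom_inv_id_assoc
    (Proj.basicOpen 𝒜 (φ g)).ι, Proj.basicOpenIsoSpec_inv_ι, Category.assoc, Category.assoc,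
    H.he n g hn hg _ hθ, h2 n g hn hg _ hθ]

theorem Ctx.mem_iff (p : Proj 𝒜) (b : B) :
    b ∈ (e.hom.base p).asHomogeneousIdeal ↔ φ b ∈ p.asHomogeneousIdeal :=
  Iff.of_eq (congrArg (b ∈ ·) (H.point p))

theorem Ctx.preimage (g : B) : e.hom ⁻¹ᵁ Proj.basicOpen ℬ g = Proj.basicOpen 𝒜 (φ g) :=
  TopologicalSpace.Opens.ext (Set.ext fun p => not_congr (H.mem_iff p g))

theorem Ctx.appLE_awayToSection {n : ℕ} (hn : 0 < n) {g : B} (hg : g ∈ ℬ n) (k : ℕ) (b : B) (hb : b ∈ ℬ (k • n)) :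
    e.hom.appLE (Proj.basicOpen ℬ g) (Proj.basicOpen 𝒜 (φ g)) (H.preimage g).ge
        (Proj.awayToSection ℬ g (Away.mk ℬ hg k b hb)) =
      Proj.awayToSection 𝒜 (φ g) (Away.mk 𝒜 (H.map_mem hg) k (φ b)
        (by have := H.map_mem hb; rwa [smul_eq_mul, mul_assoc] at this)) := by
  have hdeg' : ∀ (n : ℕ) (b : B), b ∈ ℬ n → φ.toRingHom b ∈ 𝒜 (n * d) := fun _ _ h => H.map_mem h
  let θ := CommRingCat.ofHom (EGA2.degAwayMap φ.toRingHom hdeg' g)
  have hθ : (algebraMap (Away 𝒜 (φ g)) (Localization.Away (φ g))).comp θ.hom =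
      (Localization.awayMap φ.toRingHom g).comp (algebraMap (Away ℬ g) (Localization.Away g)) :=
    RingHom.ext fun z => EGA2.val_degAwayMap φ.toRingHom hdeg' g z
  have hdn : 0 < n * d := Nat.mul_pos hn H.hd
  have key : e.hom.resLE (Proj.basicOpen ℬ g) (Proj.basicOpen 𝒜 (φ g)) (H.preimage g).ge ≫
      Proj.basicOpenToSpec ℬ g = Proj.basicOpenToSpec 𝒜 (φ g) ≫ Spec.map θ := by
    rw [← cancel_mono (Proj.awayι ℬ g hg hn), Category.assoc, Category.assoc, ← H.he n g hn hg θ hθ,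
      ← Proj.basicOpenIsoSpec_hom ℬ g hg hn, ← Proj.basicOpenIsoSpec_hom 𝒜 (φ g) (H.map_mem hg) hdn,
      ← Proj.basicOpenIsoSpec_inv_ι, ← Proj.basicOpenIsoSpec_inv_ι, Iso.hom_inv_id_assoc,
      Category.assoc, Iso.hom_inv_id_assoc, Scheme.Hom.resLE_comp_ι]
  have h := congrArg Scheme.Hom.appTop key
  simp only [Scheme.Hom.comp_appTop, Scheme.Hom.appTop] at h
  erw [Proj.basicOpenToSpec_app_top, Scheme.Hom.resLE_app_top, Proj.basicOpenToSpec_app_top,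
    reassoc_of% Scheme.ΓSpecIso_naturality θ] at h
  simp only [Category.assoc, Iso.inv_hom_id_assoc] at h
  rw [cancel_epi, ← Category.assoc, ← Category.assoc, cancel_mono] at h
  refine (ConcreteCategory.congr_hom h (Away.mk ℬ hg k b hb)).trans ?_
  refine congrArg (Proj.awayToSection 𝒜 (φ g)) ?_
  exact EGA2.degAwayMap_mk φ.toRingHom hdeg' hg k b hb

/-- The image point. -/
def Ctx.pt (_H : Ctx d φ e) (p : ProjectiveSpectrum 𝒜) : ProjectiveSpectrum ℬ := e.hom.base p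

theorem Ctx.pt_iff (p : ProjectiveSpectrum 𝒜) (b : B) :
    b ∈ (H.pt p).asHomogeneousIdeal ↔ φ b ∈ p.asHomogeneousIdeal := H.mem_iff p b

/-- `B_(e p) → A_p`. -/
noncomputable def Ctx.ringAt (p : ProjectiveSpectrum 𝒜) :
    GrTwist.Loc ℬ (H.pt p) →+* GrTwist.Loc 𝒜 p :=
  IsLocalization.map (M := (H.pt p).asHomogeneousIdeal.toIdeal.primeCompl)
    (T := p.asHomogeneousIdeal.toIdeal.primeCompl) (GrTwist.Loc 𝒜 p) φ.toRingHom
    (show _ ≤ p.asHomogeneousIdeal.toIdeal.primeCompl.comap φ.toRingHom from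
      fun b hb h => hb ((H.pt_iff p b).2 h))

theorem Ctx.ringAt_mk (p : ProjectiveSpectrum 𝒜) (b s : B) (hs : s ∉ (H.pt p).asHomogeneousIdeal) :
    H.ringAt p (Localization.mk b (⟨s, hs⟩ : (H.pt p).asHomogeneousIdeal.toIdeal.primeCompl)) =
      Localization.mk (φ b)
        (⟨φ s, fun h => hs ((H.pt_iff p s).2 h)⟩ : p.asHomogeneousIdeal.toIdeal.primeCompl) := by
  rw [Ctx.ringAt, Localization.mk_eq_mk', IsLocalization.map_mk', Localization.mk_eq_mk']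
  rfl

theorem Ctx.valO_app {U : (Proj ℬ).Opens} (r : Γ(Proj ℬ, U)) (p : ProjectiveSpectrum 𝒜) (hp : H.pt p ∈ U) :
    valO (e.hom.app U r) p hp = H.ringAt p (valO r (H.pt p) hp) := by
  obtain ⟨g, ⟨n, hn, hg⟩, hxg, hgU⟩ := GrMod11.exists_basicOpen_pos_nhd ℬ (x := H.pt p) hp
  obtain ⟨z, hz⟩ := ((ConcreteCategory.isIso_iff_bijective (Proj.basicOpenIsoAway ℬ g hg hn).hom).1
    inferInstance).2 ((Proj ℬ).presheaf.map (homOfLE hgU).op r)
  rw [Proj.basicOpenIsoAway_hom] at hz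
  obtain ⟨k, b, hb, rfl⟩ := Away.mk_surjective ℬ hg z
  have hpg : p ∈ Proj.basicOpen 𝒜 (φ g) := (H.preimage g).le hxg
  have h1 : valO r (H.pt p) hp = Localization.mk b ⟨g ^ k, pow_notMem ℬ hxg k⟩ := by
    refine Eq.trans ?_ (valO_awayToSection ℬ hg hb (H.pt p) hxg (pow_notMem ℬ hxg k))
    rw [hz]; rfl
  have hle : Proj.basicOpen 𝒜 (φ g) ≤ e.hom ⁻¹ᵁ U := (H.preimage g).ge.trans (e.hom.preimage_mono hgU)
  have h2 : valO (e.hom.app U r) p hp = Localization.mk (φ b) ⟨φ g ^ k, pow_notMem 𝒜 hpg k⟩ := by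
    have h3 : (Proj 𝒜).presheaf.map (homOfLE hle).op (e.hom.app U r) =
        e.hom.appLE (Proj.basicOpen ℬ g) (Proj.basicOpen 𝒜 (φ g)) (H.preimage g).ge
          ((Proj ℬ).presheaf.map (homOfLE hgU).op r) := by
      rw [← CommRingCat.comp_apply, ← CommRingCat.comp_apply, Scheme.Hom.map_appLE]
      rfl
    refine Eq.trans (?_ : _ = valO ((Proj 𝒜).presheaf.map (homOfLE hle).op (e.hom.app U r)) p hpg) ?_
    · rfl
    rw [h3, ← hz, H.appLE_awayToSection hn hg k b hb]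
    exact valO_awayToSection 𝒜 (H.map_mem hg) _ p hpg (pow_notMem 𝒜 hpg k)
  rw [h2, h1, H.ringAt_mk]
  congr 1
  exact Subtype.ext (map_pow φ g k).symm

omit H

section Module

variable {M : Type u} [AddCommGroup M] [Module R M] [Module A M] [IsScalarTower R A M] {ℳ : ℕ → Submodule R M}
  [DirectSum.Decomposition ℳ] [SetLike.GradedSMul 𝒜 ℳ]
  {N : Type u} [AddCommGroup N] [Module R N] [Module B N] [IsScalarTower R B N] {𝒩 : ℕ → Submodule R N}
  [DirectSum.Decomposition 𝒩] [SetLike.GradedSMul ℬ 𝒩]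
  (v : N →ₛₗ[φ.toRingHom] M)

open _root_.GrMod Groth.Agent.GrMod11

/-- `N_(e p) → M_p`. -/
noncomputable def Ctx.modAt (H : Ctx d φ e) (p : ProjectiveSpectrum 𝒜) :
    LocMod ℬ (M := N) (H.pt p) →+ LocMod 𝒜 (M := M) p where
  toFun q := LocalizedModule.liftOn q
    (fun w => mkx 𝒜 p (v w.1) (φ w.2) (fun h => w.2.2 ((H.pt_iff p w.2).2 h)))
    (fun a b ⟨u, hu⟩ => by
      refine (mkx_eq_iff 𝒜 _ _).2 ⟨φ u, fun h => u.2 ((H.pt_iff p u).2 h), ?_⟩
      have h := congrArg v hu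
      simp only [Submonoid.smul_def, LinearMap.map_smulₛₗ] at h
      exact h)
  map_zero' := by
    rw [← LocalizedModule.zero_mk (1 : (H.pt p).asHomogeneousIdeal.toIdeal.primeCompl), LocalizedModule.liftOn_mk]
    simp only [map_zero]
    exact LocalizedModule.zero_mk _
  map_add' x y := by
    induction x using LocalizedModule.induction_on with
    | h m s =>
      induction y using LocalizedModule.induction_on with
      | h m' s' =>
        rw [LocalizedModule.mk_add_mk, LocalizedModule.liftOn_mk, LocalizedModule.liftOn_mk,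
          LocalizedModule.liftOn_mk, LocalizedModule.mk_add_mk]
        simp only [Submonoid.smul_def, map_add, LinearMap.map_smulₛₗ, Submonoid.coe_mul, map_mul]
        rfl

theorem Ctx.modAt_mkx (H : Ctx d φ e) (p : ProjectiveSpectrum 𝒜) (m : N) (s : B) (hs : s ∉ (H.pt p).asHomogeneousIdeal) :
    H.modAt v p (mkx ℬ (H.pt p) m s hs) =
      mkx 𝒜 p (v m) (φ s) (fun h => hs ((H.pt_iff p s).2 h)) :=
  by
  simp only [Ctx.modAt, AddMonoidHom.coe_mk, ZeroHom.coe_mk]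
  exact LocalizedModule.liftOn_mk _ _ _

theorem Ctx.modAt_smul (H : Ctx d φ e) (p : ProjectiveSpectrum 𝒜) (c : GrTwist.Loc ℬ (H.pt p))
    (q : LocMod ℬ (M := N) (H.pt p)) : H.modAt v p (c • q) = H.ringAt p c • H.modAt v p q := by
  induction c using Localization.induction_on with
  | H a =>
    obtain ⟨b, s, hs⟩ := a
    induction q using LocalizedModule.induction_on with
    | h m t =>
      obtain ⟨t, ht⟩ := t
      show H.modAt v p ((Localization.mk b (⟨s, hs⟩ : (H.pt p).asHomogeneousIdeal.toIdeal.primeCompl)) • _) =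
        H.ringAt p (Localization.mk b ⟨s, hs⟩) • _
      rw [LocalizedModule.mk_smul_mk, H.ringAt_mk p b s hs]
      show H.modAt v p (mkx ℬ _ (b • m) (s * t) _) = _ • H.modAt v p (mkx ℬ _ m t _)
      rw [H.modAt_mkx v p m t ht]
      refine (H.modAt_mkx v p (b • m) (s * t)
        (fun h => ((H.pt p).isPrime.mem_or_mem h).elim hs ht)).trans ?_
      simp only [LinearMap.map_smulₛₗ, map_mul]
      exact (LocalizedModule.mk_smul_mk (φ b) (v m)
        (⟨φ s, fun h => hs ((H.pt_iff p s).2 h)⟩ : p.asHomogeneousIdeal.toIdeal.primeCompl)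
        ⟨φ t, fun h => ht ((H.pt_iff p t).2 h)⟩).symm

variable (hvdeg : ∀ n : ℕ, (𝒩 n : Set N).image v = (ℳ (n * d) : Set M)) (n : ℤ)

include hvdeg in
theorem Ctx.modAt_mem (H : Ctx d φ e) (p : ProjectiveSpectrum 𝒜) {q : LocMod ℬ (M := N) (H.pt p)}
    (hq : q ∈ tildeAt ℬ 𝒩 n (H.pt p)) : H.modAt v p q ∈ tildeAt 𝒜 ℳ (n * d) p := by
  obtain rfl | ⟨i, j, m, s, hs, hm, hsj, hij, rfl⟩ := GrMod11.exists_frac ℬ 𝒩 hq
  · rw [map_zero]; exact zero_mem _
  rw [H.modAt_mkx]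
  refine GrMod11.mk_mem 𝒜 ℳ ((hvdeg i).le ⟨m, hm, rfl⟩) (H.map_mem hsj) _ (Or.inl ?_)
  push_cast
  rw [hij]; ring

/-- The comparison on sections. -/
noncomputable def Ctx.compApp (H : Ctx d φ e) (U : (Proj ℬ).Opens) :
    Sec (ℳ := 𝒩) n U →+ Sec (ℳ := ℳ) (n * d) (e.hom ⁻¹ᵁ U) where
  toFun s := ⟨fun p => ⟨H.modAt v p.1 (GrMod11.val s (H.pt p.1) p.2),
      H.modAt_mem v hvdeg n p.1 (GrMod11.val_mem s _ p.2)⟩, fun p => by
    obtain ⟨W, m, iW, i, j, a, b, hb, hij, hW⟩ := s.2 ⟨H.pt p.1, p.2⟩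
    refine ⟨e.hom ⁻¹ᵁ W, m, (Opens.map e.hom.base).map iW, i * d, j * d,
      ⟨v (a : N), (hvdeg i).le ⟨_, a.2, rfl⟩⟩, ⟨φ (b : B), H.map_mem b.2⟩,
      fun z h => hb ⟨_, z.2⟩ ((H.pt_iff z.1 _).2 h), ?_, fun z => ?_⟩
    · rcases hij with h | h
      · refine Or.inl ?_
        push_cast
        rw [h]; ring
      · exact Or.inr (show v (a : N) = 0 by rw [h, map_zero])
    · exact (congrArg (H.modAt v z.1) (hW ⟨_, z.2⟩)).trans (H.modAt_mkx v _ _ _ _)⟩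
  map_zero' := GrMod11.sec_ext fun p hp => map_zero (H.modAt v p)
  map_add' a b := GrMod11.sec_ext fun p hp => map_add (H.modAt v p) _ _

theorem Ctx.val_compApp (H : Ctx d φ e) (U : (Proj ℬ).Opens) (s : Sec (ℳ := 𝒩) n U) (p : ProjectiveSpectrum 𝒜)
    (hp : H.pt p ∈ U) :
    GrMod11.val (H.compApp v hvdeg n U s) p hp = H.modAt v p (GrMod11.val s (H.pt p) hp) := rfl

/-- The comparison `N~ ⟶ e_* M~`. -/
noncomputable def Ctx.comp (H : Ctx d φ e) :
    tilde ℬ 𝒩 n ⟶ (Scheme.Modules.pushforward e.hom).obj (tilde 𝒜 ℳ (n * d)) :=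
  ⟨PresheafOfModules.homMk
    { app := fun U => AddCommGrpCat.ofHom (H.compApp v hvdeg n U.unop)
      naturality := fun _ _ _ => rfl }
    fun U r s => GrMod11.sec_ext (n := n * d) (ℳ := ℳ) fun p hp => by
      refine (congrArg (H.modAt v p) (GrMod11.val_smul (n := n) (ℳ := 𝒩) r s _ hp)).trans ?_
      refine (H.modAt_smul v p _ _).trans ?_
      refine (congrArg (· • _) (H.valO_app r p hp).symm).trans ?_
      exact (GrMod11.val_smul (n := n * d) (ℳ := ℳ) (e.hom.app U.unop r)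
        (H.compApp v hvdeg n U.unop s : Γ(tilde 𝒜 ℳ (n * d), e.hom ⁻¹ᵁ U.unop)) p hp).symm⟩

include hvdeg in
theorem Ctx.isIso_comp (H : Ctx d φ e) (hv : Function.Injective v) : IsIso (H.comp v hvdeg n) := by
  refine Scheme.Modules.Hom.isIso_iff_isIso_app.2 fun V => (ConcreteCategory.isIso_iff_bijective _).2
    (bijective_app_of_small _ ⊤ (fun V _ x hx => ?_) le_top)
  obtain ⟨g, ⟨k₀, hk₀, hg⟩, hxg, hgV⟩ := exists_basicOpen_pos_nhd ℬ hx
  have hφg := H.map_mem hg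
  have hpos : 0 < k₀ * d := Nat.mul_pos hk₀ H.hd
  have hback : ∀ y, y ∈ Proj.basicOpen ℬ g → ∃ p ∈ Proj.basicOpen 𝒜 (φ g), H.pt p = y := fun y hy => by
    obtain ⟨p, rfl⟩ := e.hom.homeomorph.surjective y
    exact ⟨p, (H.preimage g).le hy, rfl⟩
  refine ⟨_, hxg, hgV, (injective_iff_map_eq_zero _).2 fun s hs => ?_, fun t => ?_⟩
  · obtain ⟨i, k, m, hm, hi, hsm⟩ := exists_eq_frac_of_pos ℬ 𝒩 hk₀ hg (s : Sec (ℳ := 𝒩) n _)
    obtain ⟨K, hK⟩ := exists_pow_smul_eq_zero_of_mk 𝒜 ℳ hpos hφg ((hvdeg i).le ⟨m, hm, rfl⟩) fun p hp => by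
      have hp' : H.pt p ∈ Proj.basicOpen ℬ g := (H.preimage g).ge hp
      refine ⟨φ (g ^ k), by rw [map_pow]; exact pow_notMem 𝒜 hp k, ?_⟩
      have h2 := congrArg (fun q => GrMod11.val (n := n * d) (ℳ := ℳ) q p hp') hs
      replace h2 : H.modAt v p (GrMod11.val (n := n) (ℳ := 𝒩) s (H.pt p) hp') = 0 := h2
      rw [hsm (H.pt p) hp', H.modAt_mkx] at h2
      exact h2
    have h0 : g ^ K • m = 0 := hv (by
      rw [LinearMap.map_smulₛₗ, map_zero, map_pow]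
      exact hK)
    refine sec_ext (n := n) (ℳ := 𝒩) fun y hy => ?_
    rw [hsm y hy, (mkx_eq_zero_iff ℬ _).2 ⟨g ^ K, pow_notMem ℬ hy K, h0⟩]
    rfl
  · have hle : Proj.basicOpen 𝒜 (φ g) ≤ e.hom ⁻¹ᵁ Proj.basicOpen ℬ g := (H.preimage g).ge
    obtain ⟨i, k, y, hy, hi, hty⟩ := exists_eq_frac_of_pos 𝒜 ℳ hpos hφg
      (M1.mres (tilde 𝒜 ℳ (n * d)) hle t : Sec (ℳ := ℳ) (n * d) _)
    have hd' : (0 : ℤ) < d := by exact_mod_cast H.hd
    obtain ⟨i₀, hi₀⟩ : ∃ i₀ : ℕ, (i₀ : ℤ) = (k : ℤ) * k₀ + n := CanLift.prf _ (by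
      have h : (0 : ℤ) ≤ ((k : ℤ) * k₀ + n) * d := by
        have : (i : ℤ) = ((k : ℤ) * k₀ + n) * d := by rw [hi]; push_cast; ring
        omega
      exact nonneg_of_mul_nonneg_left h hd')
    have hi' : i = i₀ * d := by
      have : (i : ℤ) = ((i₀ * d : ℕ) : ℤ) := by rw [hi]; push_cast; rw [hi₀]; ring
      exact_mod_cast this
    subst hi'
    obtain ⟨m, hm, rfl⟩ := (hvdeg i₀).ge hy
    refine ⟨frac ℬ (n := n) (Proj.basicOpen ℬ g) hm (pow_mem_smul ℬ hg k) (Or.inl (by push_cast; exact hi₀))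
      (fun z hz => pow_notMem ℬ hz k), sec_ext (n := n * d) (ℳ := ℳ) fun p hp => ?_⟩
    refine Eq.trans ?_ (hty p ((H.preimage g).le hp)).symm
    refine (H.modAt_mkx v p m (g ^ k) (pow_notMem ℬ hp k)).trans ?_
    simp only [map_pow]

include hvdeg in
theorem Ctx.nonempty_iso (H : Ctx d φ e) (hv : Function.Injective v) :
    Nonempty (tilde 𝒜 ℳ (n * d) ≅ (Scheme.Modules.pullback e.hom).obj (tilde ℬ 𝒩 n)) := by
  haveI := H.isIso_comp v hvdeg n hv
  exact ⟨((Scheme.Modules.restrictFunctorAdjCounitIso e.hom).app (tilde 𝒜 ℳ (n * d))).symm ≪≫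
    (Scheme.Modules.restrictFunctor e.hom).mapIso (asIso (H.comp v hvdeg n)).symm ≪≫
    (Scheme.Modules.restrictFunctorIsoPullback e.hom).app _⟩

end Module

end Groth.Agent.Ver28
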